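import Groth.Agent.DvrDom.Basic
import Mathlib.RingTheory.Valuation.LocalSubring
import Mathlib.RingTheory.Adjoin.FG

/-!
# Integrality detected by discrete valuation rings
-/

set_option autoImplicit false
set_option linter.style.haveILetI false
set_option backward.isDefEq.respectTransparency false

universe u

open IsLocalRing

namespace Groth.Agent.InvFinite

/-- an element of a finitely generated field extension is integral over a Noetherian ring as soon as it lies in
every discrete valuation ring containing the ring -/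
theorem isIntegral_of_forall_dvr {A K : Type u} [CommRing A] [IsNoetherianRing A] [Field K] [Algebra A K]
    (s : Set K) (hfin : s.Finite) (hs : Subfield.closure (Set.range (algebraMap A K) ∪ s) = ⊤) (x : K)
    (h : ∀ V : ValuationSubring K, IsDiscreteValuationRing V → (∀ a, algebraMap A K a ∈ V) → x ∈ V) :
    IsIntegral A x := by
  by_contra hx
  have hx0 : x ≠ 0 := fun h0 => hx (h0 ▸ isIntegral_zero)
  obtain ⟨V, hV, hxV⟩ : ∃ V : ValuationSubring K, (∀ a, algebraMap A K a ∈ V) ∧ x ∉ V := by
    by_contra hall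
    push Not at hall
    apply hx
    have h1 : x ∈ ⨅ V : {V : ValuationSubring K // Set.range (algebraMap A K) ⊆ V.toSubring}, V.1.toSubring :=
      Subring.mem_iInf.2 fun V => hall V.1 fun a => V.2 ⟨a, rfl⟩
    rw [iInf_valuationSubring_superset] at h1
    obtain ⟨p, hp, hpx⟩ := h1
    have hmem : Subring.closure (Set.range (algebraMap A K)) = (algebraMap A K).range := by
      rw [← RingHom.coe_range, Subring.closure_eq]
    let e : A →+* Subring.closure (Set.range (algebraMap A K)) :=
      (algebraMap A K).codRestrict _ fun a => Subring.subset_closure ⟨a, rfl⟩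
    have he : Function.Surjective e := fun y => by
      have hy : (y : K) ∈ (algebraMap A K).range := hmem ▸ y.2
      obtain ⟨a, ha⟩ := hy
      exact ⟨a, Subtype.ext ha⟩
    obtain ⟨q, hq, -, hqm⟩ := Polynomial.lifts_and_degree_eq_and_monic (f := e)
      (p.map_surjective e he |>.elim fun q hq => (Polynomial.mem_lifts p).2 ⟨q, hq⟩) hp
    refine ⟨q, hqm, ?_⟩
    rw [← hq, Polynomial.eval₂_map] at hpx
    exact hpx
  have hxinv : x⁻¹ ∈ V := (V.mem_or_inv_mem x).resolve_left hxV
  let B := Algebra.adjoin A ({x⁻¹} : Set K)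
  have hBV : B.toSubring ≤ V.toSubring := fun y hy => by
    induction hy using Algebra.adjoin_induction with
    | mem y hy => obtain rfl : y = x⁻¹ := hy; exact hxinv
    | algebraMap a => exact hV a
    | add y z _ _ hy hz => exact V.toSubring.add_mem hy hz
    | mul y z _ _ hy hz => exact V.toSubring.mul_mem hy hz
  haveI : IsNoetherianRing B.toSubring := isNoetherianRing_of_fg (Subalgebra.fg_def.2 ⟨{x⁻¹}, Set.finite_singleton _, rfl⟩)
  let P : Ideal B.toSubring := (maximalIdeal V).comap (Subring.inclusion hBV)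
  let y : B.toSubring := ⟨x⁻¹, Algebra.subset_adjoin rfl⟩
  have hyP : y ∈ P := by
    show (⟨x⁻¹, hBV y.2⟩ : V) ∈ maximalIdeal V
    rw [mem_maximalIdeal]
    intro hu
    obtain ⟨u, hu⟩ := hu
    refine hxV ?_
    have : x = ((u⁻¹ : Vˣ) : V).1 := by
      have h2 : ((u⁻¹ : Vˣ) : V).1 * x⁻¹ = 1 := by
        have := congrArg Subtype.val u.inv_mul
        rw [hu] at this
        exact this
      calc x = (((u⁻¹ : Vˣ) : V).1 * x⁻¹) * x := by rw [h2, one_mul]
        _ = _ := by rw [mul_assoc, inv_mul_cancel₀ hx0, mul_one]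
    rw [this]
    exact SetLike.coe_mem _
  let C := LocalSubring.ofPrime B.toSubring P
  have hBC : B.toSubring ≤ C.toSubring := LocalSubring.le_ofPrime _ _
  haveI : IsNoetherianRing C.toSubring := IsLocalization.isNoetherianRing P.primeCompl _ inferInstance
  have hym : (⟨x⁻¹, hBC y.2⟩ : C.toSubring) ∈ maximalIdeal C.toSubring :=
    (IsLocalization.AtPrime.to_map_mem_maximal_iff C.toSubring P y).2 hyP
  have hC : ¬ IsField C.toSubring := fun hf => by
    rw [isField_iff_maximalIdeal_eq.1 hf, Ideal.mem_bot] at hym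
    exact inv_ne_zero hx0 (congrArg Subtype.val hym)
  obtain ⟨R, hR, hCR, hRm⟩ := DvrDom.exists_dvr_dominating_of_fg C.toSubring hC K s hfin (top_le_iff.1 (hs.ge.trans
    (Subfield.closure_le.2 (Set.union_subset
      (fun _ ⟨a, ha⟩ => Subfield.subset_closure (Or.inl ⟨⟨_, hBC (B.algebraMap_mem a)⟩, ha⟩))
      fun z hz => Subfield.subset_closure (Or.inr hz)))))
  have h1 : R.valuation x⁻¹ < 1 := hRm _ hym
  have h2 : x ∈ R := h R hR fun a => hCR ⟨_, hBC (B.algebraMap_mem a)⟩
  have h3 := (R.valuation_le_one_iff x).2 h2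
  have h4 : R.valuation x * R.valuation x⁻¹ < 1 := (mul_le_of_le_one_left' h3).trans_lt h1
  rw [← map_mul, mul_inv_cancel₀ hx0, map_one] at h4
  exact lt_irrefl _ h4

end Groth.Agent.InvFinite
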